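import Cfsg.Agent.Lib.FischerM23C90.Trace.Model

/-!
Checkers for the closure certificates on the numbered transpositions, with their soundness.
-/

set_option autoImplicit false
set_option linter.unusedSectionVars false

namespace Cfsg.Agent.Lib.FischerM23C90.Trace

open Cfsg.Agent.Lib.CosetEnum

/-- membership in a list of numbers -/
noncomputable def memb (n : ℕ) (l : List ℕ) : Bool :=
  List.rec (motive := fun _ => Bool) false (fun m _ ih => Bool.rec ih true (Nat.beq n m)) l

theorem memb_iff {n : ℕ} {l : List ℕ} : memb n l = true ↔ n ∈ l := by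
  induction l with
  | nil => simp [memb]
  | cons m l ih =>
    have h : memb n (m :: l) = Bool.rec (memb n l) true (Nat.beq n m) := rfl
    rw [h]
    cases e : Nat.beq n m
    · have hne : n ≠ m := fun he => by rw [(Nat.beq_eq ..).mpr he] at e; exact Bool.noConfusion e
      simp [ih, hne]
    · simp [Nat.eq_of_beq_eq_true e]

/-- the numbers are distinct -/
noncomputable def nodupB (l : List ℕ) : Bool :=
  List.rec (motive := fun _ => Bool) true (fun m t ih => !memb m t && ih) l

theorem nodupB_sound {l : List ℕ} (h : nodupB l = true) : l.Nodup := by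
  induction l with
  | nil => exact List.nodup_nil
  | cons m l ih =>
    have e : nodupB (m :: l) = (!memb m l && nodupB l) := rfl
    rw [e, Bool.and_eq_true, Bool.not_eq_true'] at h
    exact List.nodup_cons.2 ⟨fun hm => by rw [memb_iff.2 hm] at h; exact Bool.noConfusion h.1, ih h.2⟩

/-- a property of all members -/
noncomputable def allB (p : ℕ → Bool) (l : List ℕ) : Bool :=
  List.rec (motive := fun _ => Bool) true (fun m _ ih => p m && ih) l

theorem allB_iff {p : ℕ → Bool} {l : List ℕ} : allB p l = true ↔ ∀ m ∈ l, p m = true := by
  induction l with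
  | nil => simp [allB]
  | cons m l ih =>
    have e : allB p (m :: l) = (p m && allB p l) := rfl
    rw [e, Bool.and_eq_true, ih]
    simp

theorem beq_false {a b : ℕ} : Nat.beq a b = false ↔ a ≠ b := by
  rw [← Bool.not_eq_true, Nat.beq_eq]

/-- a point commuting with the base point, other than it -/
noncomputable def com0 (y : ℕ) : Bool := !Nat.beq y 0 && Nat.beq (act 0 y) y

theorem com0_iff {y : ℕ} : com0 y = true ↔ y ≠ 0 ∧ act 0 y = y := by
  simp [com0, beq_false]

/-- a point not commuting with the base point -/
noncomputable def far0 (y : ℕ) : Bool := !Nat.beq (act 0 y) y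

theorem far0_iff {y : ℕ} : far0 y = true ↔ act 0 y ≠ y := by
  simp [far0, beq_false]

/-- the entry of a certificate -/
noncomputable def entry (cert : PTree) (y : ℕ) : ℕ :=
  cert.lookup (fun n i => Nat.mod (Nat.shiftRight n (Nat.mul 16 (Nat.land i 1023))) 65536) y

/-- the rank of a point -/
noncomputable def rk (cert : PTree) (y : ℕ) : ℕ := Nat.div (entry cert y) 256

/-- the parent of a point is of lower rank -/
noncomputable def stepOK (dom : ℕ → Bool) (K gens : List ℕ) (cert : PTree) (y : ℕ) : Bool :=
  Nat.blt (Nat.mod (entry cert y) 256) gens.length &&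
    force (act (gens.getD (Nat.mod (entry cert y) 256) 0) y) fun z =>
      dom z && !memb z K && Nat.blt (rk cert z) (rk cert y)

/-- every point of the domain descends to a representative -/
noncomputable def downOK (dom : ℕ → Bool) (K reps gens : List ℕ) (cert : PTree) : Bool :=
  allBelow 3510 fun y =>
    Bool.rec true (Bool.rec (Bool.rec (stepOK dom K gens cert y) true (memb y reps)) true (memb y K)) (dom y)

theorem descend {dom : ℕ → Bool} {K reps gens : List ℕ} {cert : PTree}
    (h : downOK dom K reps gens cert = true) (P : ℕ → Prop)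
    (hP : ∀ y, P y → y < 3510 ∧ dom y = true ∧ y ∉ K)
    (hg : ∀ g ∈ gens, ∀ y, P y → dom (act g y) = true → act g y ∉ K → P (act g y))
    {y : ℕ} (hy : P y) : ∃ r ∈ reps, P r := by
  induction hn : rk cert y using Nat.strong_induction_on generalizing y with
  | _ n ih =>
    obtain ⟨hlt, hdom, hK⟩ := hP y hy
    have h' := allBelow_iff.1 h y hlt
    rw [hdom] at h'
    rw [show memb y K = false by
      rw [Bool.eq_false_iff]; exact fun e => hK (memb_iff.1 e)] at h'
    cases er : memb y reps
    · rw [er] at h'
      simp only [stepOK, Bool.and_eq_true, Nat.blt_eq, force_eq, Bool.not_eq_true'] at h'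
      obtain ⟨hi, ⟨hd, hz⟩, hr⟩ := h'
      have hz' : act (gens.getD (Nat.mod (entry cert y) 256) 0) y ∉ K := fun e => by
        rw [memb_iff.2 e] at hz; exact Bool.noConfusion hz
      refine ih _ (hn ▸ hr) (hg _ ?_ y hy hd hz') rfl
      rw [List.getD_eq_getElem _ _ hi]
      exact List.getElem_mem _
    · exact ⟨y, memb_iff.1 er, hy⟩

/-- the points known after the steps -/
noncomputable def run (steps : List (ℕ × ℕ)) : List ℕ → Option (List ℕ) :=
  List.rec (motive := fun _ => List ℕ → Option (List ℕ)) some
    (fun s _ ih known => Bool.rec none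
      (Bool.rec none (force (act s.1 s.2) fun z => ih (z :: known)) (memb s.2 known))
      (memb s.1 known)) steps

theorem run_sound {S : Set ℕ} (hS : ∀ a ∈ S, ∀ b ∈ S, act a b ∈ S) :
    ∀ (steps : List (ℕ × ℕ)) (known known' : List ℕ), (∀ n ∈ known, n ∈ S) →
      run steps known = some known' → ∀ n ∈ known', n ∈ S := by
  intro steps
  induction steps with
  | nil =>
    intro known known' h e
    rw [show run [] known = some known from rfl, Option.some.injEq] at e
    exact e ▸ h
  | cons s steps ih =>
    intro known known' h e
    have he : run (s :: steps) known = Bool.rec none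
      (Bool.rec none (force (act s.1 s.2) fun z => run steps (z :: known)) (memb s.2 known))
      (memb s.1 known) := rfl
    rw [he] at e
    cases e1 : memb s.1 known
    · rw [e1] at e; exact absurd e (by simp)
    rw [e1] at e
    cases e2 : memb s.2 known
    · rw [e2] at e; exact absurd e (by simp)
    simp only [e2, force_eq] at e
    refine ih _ _ (fun m hm => ?_) e
    rcases List.mem_cons.1 hm with rfl | hm
    · exact hS _ (h _ (memb_iff.1 e1)) _ (h _ (memb_iff.1 e2))
    · exact h m hm

/-- the run succeeds with a result satisfying a test -/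
noncomputable def runTest (steps : List (ℕ × ℕ)) (start : List ℕ) (test : List ℕ → Bool) : Bool :=
  Option.rec false test (run steps start)

theorem runTest_sound {S : Set ℕ} (hS : ∀ a ∈ S, ∀ b ∈ S, act a b ∈ S) {steps : List (ℕ × ℕ)}
    {start : List ℕ} {test : List ℕ → Bool} (h : runTest steps start test = true)
    (hs : ∀ n ∈ start, n ∈ S) : ∃ l, test l = true ∧ ∀ n ∈ l, n ∈ S := by
  unfold runTest at h
  cases e : run steps start with
  | none => rw [e] at h; exact absurd h (by simp)
  | some l => rw [e] at h; exact ⟨l, h, run_sound hS _ _ _ hs e⟩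

end Cfsg.Agent.Lib.FischerM23C90.Trace
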