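import Cfsg.Agent.Lib.FischerM23C90.Trace.Steps
import Cfsg.Agent.Lib.FischerExist27.M23Data
import Cfsg.Agent.Lib.FischerExist27.Model

/-!
A labelling of a set of points by the 351 reflecting vectors in seven dimensions.
-/

set_option autoImplicit false
set_option linter.unusedSectionVars false
set_option Elab.async false

namespace Cfsg.Agent.Lib.FischerM23C90.Trace

open Cfsg.Agent.Lib.CosetEnum
open Cfsg.Agent.Lib.FischerExist27 (refl)
open Cfsg.Agent.Lib.FischerExist27.M23 (codes posOf)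

/-- The vector with the given code. -/
def vecOf (c : ℕ) : Fin 7 → ZMod 3 := fun i => ((c / 3 ^ i.1 : ℕ) : ZMod 3)

/-- The code of a vector. -/
def codeOf (v : Fin 7 → ZMod 3) : ℕ := ∑ i, (v i).val * 3 ^ i.1

/-- The vectors of the labels. -/
def vec (i : Fin 351) : Fin 7 → ZMod 3 := vecOf (codes.getD i.1 0)

theorem vec_norm : ∀ i, dotProduct (vec i) (vec i) = 1 := by decide +kernel

theorem vec_pos : ∀ i : Fin 351, get32 posOf (codeOf (vec i)) = i.1 ∧
    get32 posOf (codeOf (-vec i)) = i.1 := by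
  decide +kernel

theorem vec_cover : ∀ c : Fin 2187, dotProduct (vecOf c.1) (vecOf c.1) = 1 → get32 posOf c.1 < 351 ∧
    (vecOf c.1 = vecOf (codes.getD (get32 posOf c.1) 0) ∨
      vecOf c.1 = -vecOf (codes.getD (get32 posOf c.1) 0)) := by
  decide +kernel

theorem code_lt : ∀ v : Fin 7 → ZMod 3, codeOf v < 2187 ∧ vecOf (codeOf v) = v := by decide +kernel

/-- `S` is labelled by the vectors compatibly with conjugation -/
def Lab (S : Set ℕ) : Prop :=
  ∃ a : Fin 351 → ℕ, Function.Injective a ∧ Set.range a = S ∧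
    ∃ (e : Fin 8 → Fin 351) (p : Fin 8 → Equiv.Perm (Fin 351)) (rank : Fin 351 → ℕ),
      (∀ i, (∃ k, e k = i) ∨ ∃ k j, rank j < rank i ∧ p k j = i) ∧
      (∀ k i, refl (vec (e k)) (vec i) = vec (p k i) ∨ refl (vec (e k)) (vec i) = -vec (p k i)) ∧
      ∀ k i, act (a (e k)) (a i) = a (p k i)

theorem Lab.pull {Q : Type*} [Group Q] {E : Set Q} {π : ℕ → Q} (M : Model E π) :
    ∀ g < 3510, ∀ S, Valid S → Lab (act g '' S) → Lab S := by
  rintro g hg S hS ⟨a, ha, hr, e, p, rank, h1, h2, h3⟩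
  have hmem : ∀ i, ∃ x ∈ S, act g x = a i := fun i => by
    have h : a i ∈ act g '' S := hr ▸ ⟨i, rfl⟩
    exact h
  choose b hb hba using hmem
  refine ⟨b, fun i j h => ha (by rw [← hba i, ← hba j, h]), ?_, e, p, rank, h1, h2, fun k i => ?_⟩
  · ext x
    constructor
    · rintro ⟨i, rfl⟩; exact hb i
    · intro hx
      obtain ⟨i, hi⟩ : act g x ∈ Set.range a := hr.symm ▸ ⟨x, hx, rfl⟩
      exact ⟨i, M.act_inj hg (hS.lt _ (hb i)) (hS.lt x hx) (by rw [hba, hi])⟩
  · refine M.act_inj hg (M.act_lt _ (hS.lt _ (hb _)) _ (hS.lt _ (hb _))) (hS.lt _ (hb _)) ?_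
    rw [M.hom hg (hS.lt _ (hb _)) (hS.lt _ (hb _)), hba, hba, hba, h3]

/-- the check of one mover -/
noncomputable def permB (L gens : List ℕ) (perms : List (List ℕ)) (k : ℕ) : Bool :=
  force (gens.getD k 0) fun g => Nat.blt g 351 && force (L.getD g 0) fun x => allBelow 351 fun i =>
    force ((perms.getD k []).getD i 0) fun j =>
      Nat.blt j 351 && Nat.beq ((perms.getD k []).getD j 0) i &&
        Nat.beq (act x (L.getD i 0)) (L.getD j 0)

/-- the checks of reachability -/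
noncomputable def reachB (L gens : List ℕ) (perms : List (List ℕ)) (ranks byg src : List ℕ) : Bool :=
  nodupB L && Nat.beq L.length 351 &&
  allBelow 351 fun i => Nat.blt (byg.getD i 0) 8 &&
    Bool.rec
      (Nat.blt (src.getD i 0) 351 && Nat.blt (ranks.getD (src.getD i 0) 0) (ranks.getD i 0) &&
        Nat.beq ((perms.getD (byg.getD i 0) []).getD (src.getD i 0) 0) i)
      (Nat.beq (gens.getD (byg.getD i 0) 0) i) (Nat.beq (ranks.getD i 0) 0)

/-- an index read from a table -/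
def idx (l : List ℕ) (i : ℕ) : Fin 351 := Fin.ofNat 351 (l.getD i 0)

theorem lab_of {L gens : List ℕ} {perms : List (List ℕ)} {ranks byg src : List ℕ}
    (h : reachB L gens perms ranks byg src = true) (hp : ∀ k : Fin 8, permB L gens perms k.1 = true)
    (hV : ∀ k : Fin 8, ∀ i : Fin 351,
      refl (vec (idx gens k.1)) (vec i) = vec (idx (perms.getD k.1 []) i.1) ∨
        refl (vec (idx gens k.1)) (vec i) = -vec (idx (perms.getD k.1 []) i.1)) :
    ∀ S, Valid S → (∀ x, x ∈ S ↔ x ∈ L) → Lab S := by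
  intro S _ hSL
  simp only [reachB, Bool.and_eq_true, Nat.beq_eq, allBelow_iff, Nat.blt_eq] at h
  obtain ⟨⟨hnd, hlen⟩, hreach⟩ := h
  have hk : ∀ k < 8, gens.getD k 0 < 351 ∧ ∀ i < 351, ((perms.getD k []).getD i 0 < 351 ∧
      (perms.getD k []).getD ((perms.getD k []).getD i 0) 0 = i) ∧
      act (L.getD (gens.getD k 0) 0) (L.getD i 0) = L.getD ((perms.getD k []).getD i 0) 0 := fun k hk => by
    have h' := hp ⟨k, hk⟩
    simpa only [permB, Bool.and_eq_true, Nat.beq_eq, allBelow_iff, Nat.blt_eq, force_eq] using h'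
  have hi : ∀ (l : List ℕ) (i : ℕ), l.getD i 0 < 351 → (idx l i).1 = l.getD i 0 := fun l i hl => by
    rw [idx, Fin.val_ofNat, Nat.mod_eq_of_lt hl]
  let e : Fin 8 → Fin 351 := fun k => idx gens k.1
  let f : Fin 8 → Fin 351 → Fin 351 := fun k i => idx (perms.getD k.1 []) i.1
  have hf : ∀ k i, (f k i).1 = (perms.getD k.1 []).getD i.1 0 := fun k i =>
    hi _ _ ((hk k.1 k.2).2 i.1 i.2).1.1
  let p : Fin 8 → Equiv.Perm (Fin 351) := fun k => Function.Involutive.toPerm (f k) fun i => Fin.ext (by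
    rw [hf k (f k i), hf k i]; exact ((hk k.1 k.2).2 i.1 i.2).1.2)
  let a : Fin 351 → ℕ := fun i => L.getD i.1 0
  have hainj : Function.Injective a := fun i j h => Fin.ext (by
    have hh : L.getD i.1 0 = L.getD j.1 0 := h
    rw [List.getD_eq_getElem _ _ (by omega : i.1 < L.length),
      List.getD_eq_getElem _ _ (by omega : j.1 < L.length)] at hh
    exact ((nodupB_sound hnd).getElem_inj_iff).1 hh)
  refine ⟨a, hainj, ?_, e, p, fun i => ranks.getD i.1 0, fun i => ?_, fun k i => hV k i, fun k i => ?_⟩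
  · ext x
    rw [hSL, List.mem_iff_getElem]
    constructor
    · rintro ⟨i, rfl⟩
      exact ⟨i.1, by omega, (List.getD_eq_getElem _ _ _).symm⟩
    · rintro ⟨i, hi', rfl⟩
      exact ⟨⟨i, by omega⟩, List.getD_eq_getElem _ _ hi'⟩
  · obtain ⟨hb, hb'⟩ := hreach i.1 i.2
    cases er : Nat.beq (ranks.getD i.1 0) 0
    · rw [er] at hb'
      simp only [Bool.and_eq_true, Nat.blt_eq, Nat.beq_eq] at hb'
      exact Or.inr ⟨⟨_, hb⟩, ⟨_, hb'.1.1⟩, hb'.1.2, Fin.ext (by
        rw [show (p _ _).1 = _ from hf _ _]; exact hb'.2)⟩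
    · rw [er] at hb'
      simp only [Nat.beq_eq] at hb'
      refine Or.inl ⟨⟨_, hb⟩, Fin.ext ?_⟩
      rw [show (e _).1 = _ from hi gens _ (hk _ hb).1]
      exact hb'
  · show act (L.getD (e k).1 0) (L.getD i.1 0) = L.getD (f k i).1 0
    rw [show (e k).1 = _ from hi gens k.1 (hk k.1 k.2).1, hf]
    exact ((hk k.1 k.2).2 i.1 i.2).2

end Cfsg.Agent.Lib.FischerM23C90.Trace
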