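import Cfsg.Agent.Lib.FischerM23C90.Trace.Paths
import Cfsg.Agent.Lib.FischerExist27.M22
import Cfsg.Agent.Lib.FischerUniq91.Main

/-!
A class of transpositions of type M(22) numbered by the 3510 points of the presented Fi22, with
conjugation read off from the coset table.
-/

set_option autoImplicit false
set_option maxRecDepth 20000
set_option Elab.async false
set_option linter.unusedSectionVars false

namespace Cfsg.Agent.Lib.FischerM23C90.Trace

open Cfsg.Agent.Lib.CosetEnum Cfsg.Agent.Lib.FischerExist27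

/-- unpacking a word with letters shifted by one in hexadecimal digits -/
noncomputable def decode (fuel : ℕ) : ℕ → List ℕ :=
  Nat.rec (motive := fun _ => ℕ → List ℕ) (fun _ => [])
    (fun _ ih n => Bool.rec (force (Nat.sub (Nat.mod n 16) 1) fun g => g :: force (Nat.div n 16) ih) []
      (Nat.beq (Nat.mod n 16) 0)) fuel

/-- an entry of 160 bits -/
noncomputable def f160 (n i : ℕ) : ℕ :=
  Nat.mod (Nat.shiftRight n (Nat.mul 160 (Nat.land i 63))) 1461501637330902918203684832716283019655932542976

/-- the path to a point -/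
noncomputable def path (i : ℕ) : List ℕ := force i fun i => force (pathTree.lookup f160 i) (decode 40)

/-- the image of the point `j` under the transposition of the point `i` -/
noncomputable def act (i j : ℕ) : ℕ := M22.sc (M22.conjWord (path i)) j

theorem path_ok : (allBelow 3510 fun i => Nat.beq (M22.sc (path i) 0) i &&
    (path i).all fun g => Nat.blt g 9) = true := by
  decide +kernel

/-- a numbering of a class by the points -/
structure Model {Q : Type*} [Group Q] (E : Set Q) (π : ℕ → Q) : Prop where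
  mem : ∀ i < 3510, π i ∈ E
  inj : ∀ i < 3510, ∀ j < 3510, π i = π j → i = j
  surj : ∀ x ∈ E, ∃ i < 3510, π i = x
  act_lt : ∀ i < 3510, ∀ j < 3510, act i j < 3510
  sq : ∀ i < 3510, π i * π i = 1
  conj : ∀ i < 3510, ∀ j < 3510, π i * π j * π i = π (act i j)

/-- the presented group on its points -/
theorem exists_pts : ∃ π : ℕ → M22.X, (∀ i < 3510, ∀ j < 3510, π i = π j → i = j) ∧
    (∀ i < 3510, π i ∈ conjugatesOf M22.d) ∧ (∀ x ∈ conjugatesOf M22.d, ∃ i < 3510, π i = x) ∧
    (∀ i < 3510, ∀ j < 3510, act i j < 3510) ∧ (∀ i < 3510, π i * π i = 1) ∧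
    (∀ i < 3510, ∀ j < 3510, π i * π j * π i = π (act i j)) := by
  obtain ⟨ρ, hρ, hst, htr⟩ := Fi22x3510.enum.action
  haveI hsimple : IsSimpleGroup M22.X := Cfsg.Agent.S1696.result.1
  have hscan := rho_scan Fi22x3510.letters Fi22x3510.pres ρ hρ
  have hscan0 : ∀ i : Fin 3510, (ρ M22.d i).1 = M22.sc [0] i.1 := fun i => by
    have h := hscan [0] (by decide) i
    rw [List.map_cons, List.map_nil, List.prod_cons, List.prod_nil, mul_one, ← map_inv,
      inv_eq_of_mul_eq_one_right (M22.invol 0 (by decide))] at h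
    exact h
  have hS : stab ρ M22.o = subOf Fi22x3510.letters Fi22x3510.pres Fi22x3510.subWords := by
    ext x; exact (hst x).symm
  have hinj : Function.Injective ρ := by
    rw [← MonoidHom.ker_eq_bot_iff]
    refine (MonoidHom.normal_ker ρ).eq_bot_or_eq_top.resolve_right fun h => ?_
    have h1 : ρ M22.d = 1 := by rw [← MonoidHom.mem_ker, h]; trivial
    have := hscan0 M22.r₂
    rw [h1, Equiv.Perm.one_apply] at this
    exact absurd this (by decide +kernel)
  have orb1 := Fi22x3510.orb1_spec ρ hρ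
  have orb2 := Fi22x3510.orb2_spec ρ hρ
  have hrk : RankThree ρ M22.o M22.r₁ M22.r₂ :=
    { inj := hinj
      trans := htr
      cover := fun j => by
        have h := allBelow_iff.1 M22.cover_ok j.1 j.2
        simp only [Bool.or_eq_true, Bool.and_eq_true, Nat.blt_eq, Nat.beq_eq] at h
        rcases h with (h | ⟨hlt, he⟩) | ⟨hlt, he⟩
        · exact Or.inl (Fin.ext h)
        · exact Or.inr (Or.inr (by rw [hS]; exact orb1.2.2 _ hlt j he.symm))
        · exact Or.inr (Or.inl (by rw [hS]; exact orb2.2.2 _ hlt j he.symm)) }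
  have hmax : ∀ K, stab ρ M22.o ≤ K → K = stab ρ M22.o ∨ K = ⊤ :=
    hrk.eq_or_top (a := 693) (b := 2816)
      (by rw [hS]; exact orb2.1) (by rw [hS]; exact orb1.1) (by decide) (by decide)
      (by rw [Nat.card_eq_fintype_card, Fintype.card_fin]; decide)
      (by rw [Nat.card_eq_fintype_card, Fintype.card_fin]; decide)
  have hsub : ∀ l ∈ Fi22x3510.subWords, ∀ g ∈ l, g < 9 := by decide +kernel
  have hcent : ∀ x ∈ stab ρ M22.o, x * M22.d = M22.d * x := by
    rw [hS]
    intro x hx
    have hle : subOf Fi22x3510.letters Fi22x3510.pres Fi22x3510.subWords ≤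
        Subgroup.centralizer {M22.d} := by
      rw [subOf, Subgroup.closure_le]
      rintro _ ⟨l, hl, rfl⟩
      refine Subgroup.mem_centralizer_singleton_iff.2 (hinj (inv_injective (Equiv.ext fun i => ?_)))
      apply Fin.ext
      obtain ⟨k, hk, rfl⟩ := List.mem_iff_getElem.1 hl
      have h := allBelow_iff.1 (allBelow_iff.1 M22.central_words k hk) i.1 i.2
      rw [Nat.beq_eq, List.getD_eq_getElem _ _ hk] at h
      have hw := hsub _ (List.getElem_mem hk)
      have e1 := hscan (Fi22x3510.subWords[k] ++ [0]) (by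
        intro g hg
        rcases List.mem_append.1 hg with hg | hg
        exacts [hw g hg, by rw [List.mem_singleton.1 hg]; decide]) i
      have e2 := hscan (0 :: Fi22x3510.subWords[k]) (by
        intro g hg
        rcases List.mem_cons.1 hg with rfl | hg
        exacts [by decide, hw g hg]) i
      rw [List.map_append, List.prod_append, List.map_cons, List.map_nil, List.prod_cons,
        List.prod_nil, mul_one] at e1
      rw [List.map_cons, List.prod_cons] at e2
      exact e1.trans (h.symm.trans e2.symm)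
    exact Subgroup.mem_centralizer_singleton_iff.1 (hle hx)
  have hnc : ∃ x, x * M22.d ≠ M22.d * x := by
    obtain ⟨g, hg⟩ := htr M22.r₂
    refine ⟨g, fun e => ?_⟩
    have h1 : ρ M22.d M22.o = M22.o := Fin.ext (by rw [hscan0]; decide +kernel)
    have h2 : ρ M22.d M22.r₂ = M22.r₂ := by
      rw [← hg, ← Equiv.Perm.mul_apply, ← map_mul, ← e, map_mul, Equiv.Perm.mul_apply, h1]
    have h3 := congrArg Fin.val h2
    rw [hscan0] at h3
    exact absurd h3 (by decide +kernel)
  have h : BaseInvolution ρ M22.o M22.r₁ M22.r₂ M22.d :=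
    { toRankThree := hrk
      sq := M22.invol 0 (by decide)
      max := hmax
      central := hcent
      not_central := hnc }
  have hD : (([0] : List ℕ).map (Fi22x3510.letters.phi Fi22x3510.pres)).prod = M22.d := by simp [M22.d]
  have hact : ∀ i j : Fin 3510, (ρ (h.pt i) j).1 = act i.1 j.1 := fun i j => by
    have hp := allBelow_iff.1 path_ok i.1 i.2
    simp only [Bool.and_eq_true, Nat.beq_eq, List.all_eq_true, Nat.blt_eq] at hp
    exact pt_scan Fi22x3510.letters _ h hρ M22.invol [0] hD (by decide) _ hp.2 i hp.1 j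
  let π : ℕ → M22.X := fun n => if hn : n < 3510 then h.pt ⟨n, hn⟩ else 1
  have hπ : ∀ n (hn : n < 3510), π n = h.pt ⟨n, hn⟩ := fun n hn => dif_pos hn
  have hlt : ∀ i < 3510, ∀ j < 3510, act i j < 3510 := fun i hi j hj => by
    rw [← hact ⟨i, hi⟩ ⟨j, hj⟩]; exact Fin.isLt _
  refine ⟨π, fun i hi j hj e => ?_, fun i hi => ?_, fun x hx => ?_, hlt, fun i hi => ?_,
    fun i hi j hj => ?_⟩
  · rw [hπ i hi, hπ j hj] at e
    exact congrArg Fin.val (h.pt_injective e)
  · rw [hπ i hi, ← h.range_pt]
    exact ⟨_, rfl⟩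
  · rw [← h.range_pt] at hx
    obtain ⟨i, rfl⟩ := hx
    exact ⟨i.1, i.2, hπ _ i.2⟩
  · rw [hπ i hi, h.pt_sq]
  · rw [hπ i hi, hπ j hj, hπ _ (hlt i hi j hj)]
    conv_lhs => arg 2; rw [← h.pt_inv ⟨i, hi⟩]
    rw [h.pt_conj]
    exact congrArg h.pt (Fin.ext (hact _ _))

open Cfsg.Agent.Lib.Fi22Mult in
/-- a group of type M(22) has such a numbering -/
theorem exists_model {Q : Type*} [Group Q] [Finite Q] {E : Set Q} (hD : Cfsg.IsThreeTranspositionGroup E)
    (hprim : Cfsg.IsPrimitiveUnderConj E) (ht : Cfsg.IsOfTypeM22 Q E) : ∃ π, Model E π := by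
  obtain ⟨e, he⟩ := FischerUniq91.Main.exists_iso hD hprim ht
  obtain ⟨π, hinj, hmem, hsurj, hlt, hsq, hconj⟩ := exists_pts
  have hd : e M22.d ∈ E := by
    have := he Cfsg.Spor.Fi22.Gen.a
    rwa [gen₂₂_eq] at this
  refine ⟨fun i => e (π i), fun i hi => ?_, fun i hi j hj h => hinj i hi j hj (e.injective h),
    fun x hx => ?_, hlt, fun i hi => by rw [← map_mul, hsq i hi, map_one],
    fun i hi j hj => by rw [← map_mul, ← map_mul, hconj i hi j hj]⟩
  · obtain ⟨c, hc⟩ := isConj_iff.1 (show IsConj M22.d (π i) from hmem i hi)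
    show e (π i) ∈ E
    rw [← hc, map_mul, map_mul, map_inv]
    exact hD.2.1 _ _ hd
  · obtain ⟨g, rfl⟩ := hprim.1 _ hd x hx
    obtain ⟨g, rfl⟩ := e.surjective g
    obtain ⟨i, hi, h⟩ := hsurj (g * M22.d * g⁻¹) (isConj_iff.2 ⟨g, rfl⟩)
    exact ⟨i, hi, by show e (π i) = _; rw [h, map_mul, map_mul, map_inv]⟩

end Cfsg.Agent.Lib.FischerM23C90.Trace
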