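import Cfsg.Agent.Lib.FischerM23C90.Trace.Cert1
import Cfsg.Agent.Lib.FischerM23C90.Trace.Cert2
import Cfsg.Agent.Lib.FischerM23C90.Trace.Case0
import Cfsg.Agent.Lib.FischerM23C90.Trace.Case1
import Cfsg.Agent.Lib.FischerM23C90.Trace.Case2
import Cfsg.Agent.Lib.FischerM23C90.Trace.Case3
import Cfsg.Agent.Lib.FischerM23C90.Trace.Case4
import Cfsg.Agent.Lib.FischerM23C90.Trace.Case5

/-! Every admissible set is one of the computed ones. -/

set_option autoImplicit false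
set_option maxRecDepth 100000
set_option Elab.async false

namespace Cfsg.Agent.Lib.FischerM23C90.Trace.Pinned

open Cfsg.Agent.Lib.CosetEnum

theorem node2_goal : Goal2 Lab Cert2.known2 :=
  node2 Lab (by decide) Cert2.ok2 (List.forall_mem_cons.2 ⟨too_big Lab Cert2.kid2_0,
    fun _ hr => absurd hr List.not_mem_nil⟩)

theorem node4_goal : Goal2 Lab Cert2.known4 :=
  node2 Lab (by decide) Cert2.ok4 (List.forall_mem_cons.2 ⟨too_big Lab Cert2.kid4_0,
    fun _ hr => absurd hr List.not_mem_nil⟩)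

theorem node3_goal : Goal2 Lab Cert2.known3 :=
  node2 Lab (by decide) Cert2.ok3 (List.forall_mem_cons.2 ⟨too_big Lab Cert2.kid3_0,
    List.forall_mem_cons.2 ⟨grow Lab Cert2.kid3_1 node4_goal,
    List.forall_mem_cons.2 ⟨too_big Lab Cert2.kid3_2,
    fun _ hr => absurd hr List.not_mem_nil⟩⟩⟩)

theorem node1_goal : Goal2 Lab Cert2.known1 :=
  node2 Lab (by decide) Cert2.ok1 (List.forall_mem_cons.2 ⟨grow Lab Cert2.kid1_0 Case0.goal,
    List.forall_mem_cons.2 ⟨grow Lab Cert2.kid1_1 node2_goal,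
    List.forall_mem_cons.2 ⟨grow Lab Cert2.kid1_2 Case1.goal,
    List.forall_mem_cons.2 ⟨too_big Lab Cert2.kid1_3,
    List.forall_mem_cons.2 ⟨too_big Lab Cert2.kid1_4,
    List.forall_mem_cons.2 ⟨grow Lab Cert2.kid1_5 node3_goal,
    fun _ hr => absurd hr List.not_mem_nil⟩⟩⟩⟩⟩⟩)

theorem leaf0_goal : Goal1 Lab [6, 10, 40, 81, 59, 86] :=
  of_six Lab rfl (grow Lab Cert2.ok0 node1_goal)

theorem node7_goal : Goal2 Lab Cert2.known7 :=
  node2 Lab (by decide) Cert2.ok7 (List.forall_mem_cons.2 ⟨too_big Lab Cert2.kid7_0,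
    fun _ hr => absurd hr List.not_mem_nil⟩)

theorem node9_goal : Goal2 Lab Cert2.known9 :=
  node2 Lab (by decide) Cert2.ok9 (List.forall_mem_cons.2 ⟨too_big Lab Cert2.kid9_0,
    fun _ hr => absurd hr List.not_mem_nil⟩)

theorem node8_goal : Goal2 Lab Cert2.known8 :=
  node2 Lab (by decide) Cert2.ok8 (List.forall_mem_cons.2 ⟨too_big Lab Cert2.kid8_0,
    List.forall_mem_cons.2 ⟨grow Lab Cert2.kid8_1 node9_goal,
    List.forall_mem_cons.2 ⟨too_big Lab Cert2.kid8_2,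
    fun _ hr => absurd hr List.not_mem_nil⟩⟩⟩)

theorem node6_goal : Goal2 Lab Cert2.known6 :=
  node2 Lab (by decide) Cert2.ok6 (List.forall_mem_cons.2 ⟨grow Lab Cert2.kid6_0 Case2.goal,
    List.forall_mem_cons.2 ⟨grow Lab Cert2.kid6_1 Case3.goal,
    List.forall_mem_cons.2 ⟨grow Lab Cert2.kid6_2 node7_goal,
    List.forall_mem_cons.2 ⟨too_big Lab Cert2.kid6_3,
    List.forall_mem_cons.2 ⟨too_big Lab Cert2.kid6_4,
    List.forall_mem_cons.2 ⟨grow Lab Cert2.kid6_5 node8_goal,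
    fun _ hr => absurd hr List.not_mem_nil⟩⟩⟩⟩⟩⟩)

theorem leaf1_goal : Goal1 Lab [6, 10, 40, 81, 97, 86] :=
  of_six Lab rfl (grow Lab Cert2.ok5 node6_goal)

theorem node12_goal : Goal2 Lab Cert2.known12 :=
  node2 Lab (by decide) Cert2.ok12 (List.forall_mem_cons.2 ⟨too_big Lab Cert2.kid12_0,
    fun _ hr => absurd hr List.not_mem_nil⟩)

theorem node14_goal : Goal2 Lab Cert2.known14 :=
  node2 Lab (by decide) Cert2.ok14 (List.forall_mem_cons.2 ⟨too_big Lab Cert2.kid14_0,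
    fun _ hr => absurd hr List.not_mem_nil⟩)

theorem node13_goal : Goal2 Lab Cert2.known13 :=
  node2 Lab (by decide) Cert2.ok13 (List.forall_mem_cons.2 ⟨grow Lab Cert2.kid13_0 node14_goal,
    List.forall_mem_cons.2 ⟨too_big Lab Cert2.kid13_1,
    List.forall_mem_cons.2 ⟨too_big Lab Cert2.kid13_2,
    fun _ hr => absurd hr List.not_mem_nil⟩⟩⟩)

theorem node11_goal : Goal2 Lab Cert2.known11 :=
  node2 Lab (by decide) Cert2.ok11 (List.forall_mem_cons.2 ⟨grow Lab Cert2.kid11_0 node12_goal,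
    List.forall_mem_cons.2 ⟨grow Lab Cert2.kid11_1 Case4.goal,
    List.forall_mem_cons.2 ⟨too_big Lab Cert2.kid11_2,
    List.forall_mem_cons.2 ⟨grow Lab Cert2.kid11_3 Case5.goal,
    List.forall_mem_cons.2 ⟨too_big Lab Cert2.kid11_4,
    List.forall_mem_cons.2 ⟨grow Lab Cert2.kid11_5 node13_goal,
    fun _ hr => absurd hr List.not_mem_nil⟩⟩⟩⟩⟩⟩)

theorem leaf2_goal : Goal1 Lab [6, 10, 40, 81, 155, 86] :=
  of_six Lab rfl (grow Lab Cert2.ok10 node11_goal)

theorem path5_goal {Q : Type*} [Group Q] {E : Set Q} {π : ℕ → Q} (M : Model E π) :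
    Goal1 Lab [6, 10, 40, 81, 59] :=
  step1 Lab M (Lab.pull M) (by decide) Cert1.ok6.2 Cert1.ok6.1 (List.forall_mem_cons.2 ⟨leaf0_goal,
    fun _ hr => absurd hr List.not_mem_nil⟩)

theorem path6_goal {Q : Type*} [Group Q] {E : Set Q} {π : ℕ → Q} (M : Model E π) :
    Goal1 Lab [6, 10, 40, 81, 97] :=
  step1 Lab M (Lab.pull M) (by decide) Cert1.ok7.2 Cert1.ok7.1 (List.forall_mem_cons.2 ⟨leaf1_goal,
    fun _ hr => absurd hr List.not_mem_nil⟩)

theorem path7_goal {Q : Type*} [Group Q] {E : Set Q} {π : ℕ → Q} (M : Model E π) :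
    Goal1 Lab [6, 10, 40, 81, 154] :=
  step1 Lab M (Lab.pull M) (by decide) Cert1.ok8.2 Cert1.ok8.1 (fun _ hr => absurd hr List.not_mem_nil)

theorem path8_goal {Q : Type*} [Group Q] {E : Set Q} {π : ℕ → Q} (M : Model E π) :
    Goal1 Lab [6, 10, 40, 81, 155] :=
  step1 Lab M (Lab.pull M) (by decide) Cert1.ok9.2 Cert1.ok9.1 (List.forall_mem_cons.2 ⟨leaf2_goal,
    fun _ hr => absurd hr List.not_mem_nil⟩)

theorem path4_goal {Q : Type*} [Group Q] {E : Set Q} {π : ℕ → Q} (M : Model E π) :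
    Goal1 Lab [6, 10, 40, 81] :=
  step1 Lab M (Lab.pull M) (by decide) Cert1.ok5.2 Cert1.ok5.1 (List.forall_mem_cons.2 ⟨(path5_goal M),
    List.forall_mem_cons.2 ⟨(path6_goal M),
    List.forall_mem_cons.2 ⟨(path7_goal M),
    List.forall_mem_cons.2 ⟨(path8_goal M),
    fun _ hr => absurd hr List.not_mem_nil⟩⟩⟩⟩)

theorem path3_goal {Q : Type*} [Group Q] {E : Set Q} {π : ℕ → Q} (M : Model E π) :
    Goal1 Lab [6, 10, 40] :=
  step1 Lab M (Lab.pull M) (by decide) Cert1.ok4.2 Cert1.ok4.1 (List.forall_mem_cons.2 ⟨(path4_goal M),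
    fun _ hr => absurd hr List.not_mem_nil⟩)

theorem path2_goal {Q : Type*} [Group Q] {E : Set Q} {π : ℕ → Q} (M : Model E π) :
    Goal1 Lab [6, 10] :=
  step1 Lab M (Lab.pull M) (by decide) Cert1.ok3.2 Cert1.ok3.1 (List.forall_mem_cons.2 ⟨(path3_goal M),
    fun _ hr => absurd hr List.not_mem_nil⟩)

theorem path1_goal {Q : Type*} [Group Q] {E : Set Q} {π : ℕ → Q} (M : Model E π) :
    Goal1 Lab [6] :=
  step1 Lab M (Lab.pull M) (by decide) Cert1.ok2.2 Cert1.ok2.1 (List.forall_mem_cons.2 ⟨(path2_goal M),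
    fun _ hr => absurd hr List.not_mem_nil⟩)

theorem path0_goal {Q : Type*} [Group Q] {E : Set Q} {π : ℕ → Q} (M : Model E π) :
    Goal1 Lab [] :=
  step1 Lab M (Lab.pull M) (by decide) Cert1.ok1.2 Cert1.ok1.1 (List.forall_mem_cons.2 ⟨(path1_goal M),
    fun _ hr => absurd hr List.not_mem_nil⟩)

/-- a closed set of valency 126 with a path of six in some neighbourhood is labelled by the vectors -/
theorem labelled {Q : Type*} [Group Q] {E : Set Q} {π : ℕ → Q} (M : Model E π) {S : Set ℕ} (hS : Valid S)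
    {p : ℕ} (hp : p ∈ S) {w : Fin 6 → ℕ} (hw : PathAt S p w) : Lab S :=
  start Lab M (Lab.pull M) Cert1.ok0.2 Cert1.ok0.1 (path0_goal M) hS hp hw

end Cfsg.Agent.Lib.FischerM23C90.Trace.Pinned
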