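import Cfsg.Agent.Lib.FischerM23C90.Trace.Check

/-!
Sets of points closed under conjugation in which every member has 126 commuting others: moving one of
them to a standard position, and the steps of the closure argument.
-/

set_option autoImplicit false
set_option linter.unusedSectionVars false

namespace Cfsg.Agent.Lib.FischerM23C90.Trace

open Cfsg.Agent.Lib.CosetEnum

variable {Q : Type*} [Group Q] {E : Set Q} {π : ℕ → Q}

namespace Model

variable (M : Model E π)

include M in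
theorem self {i : ℕ} (hi : i < 3510) : act i i = i := by
  refine M.inj _ (M.act_lt i hi i hi) i hi ?_
  rw [← M.conj i hi i hi, M.sq i hi, one_mul]

include M in
theorem invol {i j : ℕ} (hi : i < 3510) (hj : j < 3510) : act i (act i j) = j := by
  refine M.inj _ (M.act_lt i hi _ (M.act_lt i hi j hj)) j hj ?_
  rw [← M.conj i hi _ (M.act_lt i hi j hj), ← M.conj i hi j hj]
  calc π i * (π i * π j * π i) * π i = (π i * π i) * π j * (π i * π i) := by group
    _ = π j := by rw [M.sq i hi, one_mul, mul_one]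

include M in
theorem comm_iff {i j : ℕ} (hi : i < 3510) (hj : j < 3510) : Commute (π i) (π j) ↔ act i j = j := by
  constructor
  · intro h
    refine M.inj _ (M.act_lt i hi j hj) j hj ?_
    rw [← M.conj i hi j hj, h.eq, mul_assoc, M.sq i hi, mul_one]
  · intro h
    have e := M.conj i hi j hj
    rw [h] at e
    calc π i * π j = π i * π j * (π i * π i) := by rw [M.sq i hi, mul_one]
      _ = (π i * π j * π i) * π i := by group
      _ = π j * π i := by rw [e]

include M in
theorem symm {i j : ℕ} (hi : i < 3510) (hj : j < 3510) (h : act i j = j) : act j i = i :=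
  (M.comm_iff hj hi).1 ((M.comm_iff hi hj).2 h).symm

include M in
theorem hom {g a b : ℕ} (hg : g < 3510) (ha : a < 3510) (hb : b < 3510) :
    act g (act a b) = act (act g a) (act g b) := by
  have h1 := M.act_lt g hg a ha
  have h2 := M.act_lt g hg b hb
  refine M.inj _ (M.act_lt g hg _ (M.act_lt a ha b hb)) _ (M.act_lt _ h1 _ h2) ?_
  rw [← M.conj g hg _ (M.act_lt a ha b hb), ← M.conj a ha b hb, ← M.conj _ h1 _ h2, ← M.conj g hg a ha,
    ← M.conj g hg b hb]
  calc π g * (π a * π b * π a) * π g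
      = π g * π a * 1 * π b * 1 * π a * π g := by group
    _ = π g * π a * (π g * π g) * π b * (π g * π g) * π a * π g := by rw [M.sq g hg]
    _ = π g * π a * π g * (π g * π b * π g) * (π g * π a * π g) := by group

include M in
theorem act_inj {g a b : ℕ} (hg : g < 3510) (ha : a < 3510) (hb : b < 3510) (h : act g a = act g b) :
    a = b := by
  rw [← M.invol hg ha, h, M.invol hg hb]

include M in
theorem fix_act {g a b : ℕ} (hg : g < 3510) (ha : a < 3510) (hb : b < 3510) (hga : act g a = a) :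
    act a (act g b) = act g (act a b) := by
  rw [M.hom hg ha hb, hga]

end Model

/-- the neighbours of `p` in `S` -/
abbrev nbr (S : Set ℕ) (p : ℕ) : Set ℕ := {j | j ∈ S ∧ j ≠ p ∧ act p j = j}

/-- closed, of valency 126 -/
structure Valid (S : Set ℕ) : Prop where
  lt : ∀ i ∈ S, i < 3510
  closed : ∀ a ∈ S, ∀ b ∈ S, act a b ∈ S
  val : ∀ p ∈ S, (nbr S p).ncard = 126

theorem Valid.finite {S : Set ℕ} (h : Valid S) : S.Finite :=
  (Set.finite_lt_nat 3510).subset h.lt

theorem Valid.image (M : Model E π) {S : Set ℕ} (h : Valid S) {g : ℕ} (hg : g < 3510) :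
    Valid (act g '' S) := by
  refine ⟨?_, ?_, ?_⟩
  · rintro _ ⟨i, hi, rfl⟩
    exact M.act_lt g hg i (h.lt i hi)
  · rintro _ ⟨a, ha, rfl⟩ _ ⟨b, hb, rfl⟩
    exact ⟨act a b, h.closed a ha b hb, M.hom hg (h.lt a ha) (h.lt b hb)⟩
  · rintro _ ⟨p, hp, rfl⟩
    have e : nbr (act g '' S) (act g p) = act g '' nbr S p := by
      ext y
      constructor
      · rintro ⟨⟨j, hj, rfl⟩, hne, hc⟩
        refine ⟨j, ⟨hj, fun e => hne (by rw [e]), ?_⟩, rfl⟩
        rw [← M.hom hg (h.lt p hp) (h.lt j hj)] at hc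
        exact M.act_inj hg (M.act_lt p (h.lt p hp) j (h.lt j hj)) (h.lt j hj) hc
      · rintro ⟨j, ⟨hj, hne, hc⟩, rfl⟩
        refine ⟨⟨j, hj, rfl⟩, fun e => hne (M.act_inj hg (h.lt j hj) (h.lt p hp) e), ?_⟩
        rw [← M.hom hg (h.lt p hp) (h.lt j hj), hc]
    rw [e, Set.InjOn.ncard_image (fun a ha b hb h' => M.act_inj hg (h.lt a ha.1) (h.lt b hb.1) h'),
      h.val p hp]

/-- adjacency on the path of six -/
abbrev adj (i j : Fin 6) : Prop := i.1 + 1 = j.1 ∨ j.1 + 1 = i.1

/-- six neighbours of `p` in `S` forming a path -/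
structure PathAt (S : Set ℕ) (p : ℕ) (w : Fin 6 → ℕ) : Prop where
  mem : ∀ i, w i ∈ nbr S p
  pat : ∀ i j, act (w i) (w j) = w j ↔ ¬ adj i j

theorem PathAt.inj {S : Set ℕ} {p : ℕ} {w : Fin 6 → ℕ} (h : PathAt S p w) {i j : Fin 6} (e : w i = w j) :
    i = j := by
  by_contra hne
  have key : ∀ i j : Fin 6, i ≠ j → ∃ k, ¬ (adj i k ↔ adj j k) := by decide
  obtain ⟨k, hk⟩ := key i j hne
  have h1 := h.pat i k
  rw [e, h.pat j k] at h1
  exact hk (not_iff_not.1 h1).symm

theorem PathAt.image (M : Model E π) {S : Set ℕ} (hS : Valid S) {p : ℕ} (hp : p ∈ S) {w : Fin 6 → ℕ}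
    (h : PathAt S p w) {g : ℕ} (hg : g < 3510) : PathAt (act g '' S) (act g p) fun i => act g (w i) := by
  refine ⟨fun i => ?_, fun i j => ?_⟩
  · obtain ⟨hm, hne, hc⟩ := h.mem i
    refine ⟨⟨_, hm, rfl⟩, fun e => hne (M.act_inj hg (hS.lt _ hm) (hS.lt p hp) e), ?_⟩
    rw [← M.hom hg (hS.lt p hp) (hS.lt _ hm), hc]
  · have hi := hS.lt _ (h.mem i).1
    have hj := hS.lt _ (h.mem j).1
    rw [← h.pat i j]
    show act (act g (w i)) (act g (w j)) = act g (w j) ↔ _
    rw [← M.hom hg hi hj]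
    exact ⟨fun e => M.act_inj hg (M.act_lt _ hi _ hj) hj e, fun e => by rw [e]⟩

variable (Goal : Set ℕ → Prop)

/-- what is to be shown for sets through a given start of the path -/
def Goal1 (ws : List ℕ) : Prop :=
  ∀ S, Valid S → 0 ∈ S → ∀ w, PathAt S 0 w → (∀ i : Fin 6, i.1 < ws.length → w i = ws.getD i.1 0) → Goal S

/-- what is to be shown for sets containing given neighbours of the base point -/
def Goal2 (K : List ℕ) : Prop := ∀ S, Valid S → 0 ∈ S → (∀ x ∈ K, x ∈ S) → Goal S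

/-- the pattern of the next member of the path -/
noncomputable def dom1 (ws : List ℕ) (y : ℕ) : Bool :=
  com0 y && allBelow ws.length fun i =>
    Bool.rec (Nat.beq (act (ws.getD i 0) y) y && !Nat.beq (ws.getD i 0) y)
      (!Nat.beq (act (ws.getD i 0) y) y) (Nat.beq (i + 1) ws.length)

/-- the movers fix what is chosen -/
noncomputable def fixB (ws gens : List ℕ) : Bool :=
  allB (fun g => Nat.blt g 3510 && Nat.beq (act g 0) 0 && allB (fun x => Nat.beq (act g x) x) ws) gens

variable (M : Model E π)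
variable (hGoal : ∀ g < 3510, ∀ S, Valid S → Goal (act g '' S) → Goal S)

include M hGoal in
theorem start {gens : List ℕ} {cert : PTree} (hg : allB (fun g => Nat.blt g 3510) gens = true)
    (h : downOK (fun _ => true) [] [0] gens cert = true) (h1 : Goal1 Goal [])
    {S : Set ℕ} (hS : Valid S) {p : ℕ} (hp : p ∈ S) {w : Fin 6 → ℕ} (hw : PathAt S p w) : Goal S := by
  by_contra hcon
  obtain ⟨r, hr, -, S', w', hS', hr', hw', hno⟩ := descend h
    (fun y => y < 3510 ∧ ∃ S w, Valid S ∧ y ∈ S ∧ PathAt S y w ∧ ¬ Goal S)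
    (fun y hy => ⟨hy.1, rfl, List.not_mem_nil⟩)
    (fun g hg' y hy _ _ => by
      obtain ⟨hy1, S, w, hS, hyS, hw, hno⟩ := hy
      have hgl : g < 3510 := by simpa using allB_iff.1 hg g hg'
      exact ⟨M.act_lt g hgl y hy1, _, _, hS.image M hgl, ⟨y, hyS, rfl⟩, hw.image M hS hyS hgl,
        fun hG => hno (hGoal g hgl S hS hG)⟩)
    (y := p) ⟨hS.lt p hp, S, w, hS, hp, hw, hcon⟩
  obtain rfl := List.mem_singleton.1 hr
  exact hno (h1 S' hS' hr' w' hw' fun i hi => absurd hi (Nat.not_lt_zero _))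

include M hGoal in
theorem step1 {ws reps gens : List ℕ} {cert : PTree} (hk : ws.length < 6) (hg : fixB ws gens = true)
    (h : downOK (dom1 ws) [] reps gens cert = true) (hr : ∀ r ∈ reps, Goal1 Goal (ws ++ [r])) :
    Goal1 Goal ws := by
  intro S hS h0 w hw hpre
  by_contra hcon
  set k : Fin 6 := ⟨ws.length, hk⟩
  have hdom : ∀ {S : Set ℕ} {w : Fin 6 → ℕ}, PathAt S 0 w →
      (∀ i : Fin 6, i.1 < ws.length → w i = ws.getD i.1 0) → dom1 ws (w k) = true := by
    intro S w hw hpre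
    simp only [dom1, Bool.and_eq_true]
    refine ⟨com0_iff.2 ⟨(hw.mem k).2.1, (hw.mem k).2.2⟩, allBelow_iff.2 fun i hi => ?_⟩
    have e := hpre ⟨i, by omega⟩ hi
    simp only at e
    rw [← e]
    cases eb : Nat.beq (i + 1) ws.length
    · have hne : i + 1 ≠ ws.length := beq_false.1 eb
      simp only [Bool.and_eq_true, Nat.beq_eq, Bool.not_eq_true', beq_false]
      refine ⟨(hw.pat _ k).2 ?_, fun e' => absurd (congrArg Fin.val (hw.inj e')) (by simp [k]; omega)⟩
      rintro (h' | h') <;> simp only [k] at h' <;> omega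
    · simp only [Bool.not_eq_true', beq_false]
      exact fun e' => (hw.pat _ k).1 e' (Or.inl (Nat.eq_of_beq_eq_true eb))
  obtain ⟨r, hr', -, -, S', w', hS', h0', hw', hpre', hwk, hno⟩ := descend h
    (fun y => y < 3510 ∧ dom1 ws y = true ∧ ∃ S w, Valid S ∧ 0 ∈ S ∧ PathAt S 0 w ∧
      (∀ i : Fin 6, i.1 < ws.length → w i = ws.getD i.1 0) ∧ w k = y ∧ ¬ Goal S)
    (fun y hy => ⟨hy.1, hy.2.1, List.not_mem_nil⟩)
    (fun g hg' y hy hd _ => by
      obtain ⟨hy1, -, S, w, hS, h0, hw, hpre, hwk, hno⟩ := hy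
      have hgg := allB_iff.1 hg g hg'
      simp only [Bool.and_eq_true, Nat.blt_eq, Nat.beq_eq, allB_iff] at hgg
      obtain ⟨⟨hgl, hg0⟩, hgw⟩ := hgg
      refine ⟨M.act_lt g hgl y hy1, hd, _, _, hS.image M hgl, ⟨0, h0, hg0⟩,
        hg0 ▸ hw.image M hS h0 hgl, fun i hi => ?_, by rw [← hwk], fun hG => hno (hGoal g hgl S hS hG)⟩
      show act g (w i) = _
      rw [hpre i hi, List.getD_eq_getElem _ _ hi]
      exact hgw _ (List.getElem_mem _))
    (y := w k) ⟨hS.lt _ (hw.mem k).1, hdom hw hpre, S, w, hS, h0, hw, hpre, rfl, hcon⟩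
  refine hno (hr r hr' S' hS' h0' w' hw' fun i hi => ?_)
  rw [List.length_append, List.length_singleton] at hi
  rcases Nat.lt_succ_iff_lt_or_eq.1 hi with h' | h'
  · rw [hpre' i h', List.getD_append _ _ _ _ h']
  · rw [show i = k from Fin.ext h', hwk, List.getD_append_right _ _ _ _ le_rfl, Nat.sub_self]
    rfl

theorem of_six {ws : List ℕ} (hk : ws.length = 6) (h : Goal2 Goal ws) : Goal1 Goal ws := by
  intro S hS h0 w hw hpre
  refine h S hS h0 fun x hx => ?_
  obtain ⟨i, hi, rfl⟩ := List.mem_iff_getElem.1 hx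
  rw [← List.getD_eq_getElem _ 0 hi, ← hpre ⟨i, by omega⟩ hi]
  exact (hw.mem _).1

theorem grow {start K : List ℕ} {steps : List (ℕ × ℕ)}
    (h : runTest steps start (fun l => allB (fun x => memb x l) K) = true) (hK : Goal2 Goal K) :
    Goal2 Goal start := by
  intro S hS h0 hs
  obtain ⟨l, hl, hlS⟩ := runTest_sound hS.closed h hs
  exact hK S hS h0 fun x hx => hlS x (memb_iff.1 (allB_iff.1 hl x hx))

theorem too_big {start : List ℕ} {steps : List (ℕ × ℕ)}
    (h : runTest steps start (fun l => nodupB l && allB com0 l && Nat.blt 126 l.length) = true) :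
    Goal2 Goal start := by
  intro S hS h0 hs
  obtain ⟨l, hl, hlS⟩ := runTest_sound hS.closed h hs
  simp only [Bool.and_eq_true, Nat.blt_eq, allB_iff] at hl
  obtain ⟨⟨hn, hc⟩, hlen⟩ := hl
  have hsub : (l.toFinset : Set ℕ) ⊆ nbr S 0 := fun x hx =>
    have hx' : x ∈ l := List.mem_toFinset.1 (Finset.mem_coe.1 hx)
    ⟨hlS x hx', com0_iff.1 (hc x hx')⟩
  have := Set.ncard_le_ncard hsub (hS.finite.subset fun x hx => hx.1)
  rw [Set.ncard_coe_finset, List.toFinset_card_of_nodup (nodupB_sound hn), hS.val 0 h0] at this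
  omega

theorem node2 {K reps : List ℕ} {cert : PTree} (hlen : K.length < 126)
    (h : downOK com0 K reps K cert = true) (hr : ∀ r ∈ reps, Goal2 Goal (r :: K)) : Goal2 Goal K := by
  intro S hS h0 hKS
  obtain ⟨y, hy, hyK⟩ : ∃ y ∈ nbr S 0, y ∉ K := by
    by_contra hcon
    push Not at hcon
    have := Set.ncard_le_ncard (t := (K.toFinset : Set ℕ))
      (fun y hy => Finset.mem_coe.2 (List.mem_toFinset.2 (hcon y hy))) (Set.toFinite _)
    rw [hS.val 0 h0, Set.ncard_coe_finset] at this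
    have := this.trans (List.toFinset_card_le K)
    omega
  obtain ⟨r, hr', hrS, -, -⟩ := descend h (fun y => y ∈ S ∧ com0 y = true ∧ y ∉ K)
    (fun y hy => ⟨hS.lt y hy.1, hy.2⟩)
    (fun g hg y hy hd hn => ⟨hS.closed g (hKS g hg) y hy.1, hd, hn⟩)
    (y := y) ⟨hy.1, com0_iff.2 hy.2, hyK⟩
  exact hr r hr' S hS h0 fun x hx => (List.mem_cons.1 hx).elim (fun e => e ▸ hrS) (hKS x)

/-- the number of members commuting with `q`, other than it -/
noncomputable def deg (q : ℕ) (l : List ℕ) : ℕ :=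
  List.rec (motive := fun _ => ℕ) 0
    (fun m _ ih => Bool.rec ih (Nat.succ ih) (!Nat.beq m q && Nat.beq (act q m) m)) l

theorem deg_le (q : ℕ) (l : List ℕ) : {x | x ∈ l ∧ x ≠ q ∧ act q x = x}.ncard ≤ deg q l := by
  induction l with
  | nil => simp
  | cons m l ih =>
    have e : deg q (m :: l) = Bool.rec (deg q l) (Nat.succ (deg q l)) (!Nat.beq m q && Nat.beq (act q m) m) := rfl
    rw [e]
    have hfin : {x | x ∈ l ∧ x ≠ q ∧ act q x = x}.Finite := l.finite_toSet.subset fun x hx => hx.1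
    cases eb : (!Nat.beq m q && Nat.beq (act q m) m)
    · refine le_trans (Set.ncard_le_ncard (fun x hx => ?_) hfin) ih
      rcases List.mem_cons.1 hx.1 with rfl | h
      · exfalso
        rw [Bool.and_eq_false_iff, Bool.not_eq_false', Nat.beq_eq, beq_false] at eb
        exact eb.elim hx.2.1 fun h => h hx.2.2
      · exact ⟨h, hx.2⟩
    · refine le_trans ((Set.ncard_le_ncard (fun x hx => ?_) (hfin.insert m)).trans
        (Set.ncard_insert_le m _)) (Nat.succ_le_succ ih)
      rcases List.mem_cons.1 hx.1 with rfl | h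
      · exact Or.inl rfl
      · exact Or.inr ⟨h, hx.2⟩

/-- the run ends outside the known neighbours of the base point -/
noncomputable def badB (tp : List ℕ) (l : List ℕ) : Bool :=
  com0 (l.headD 0) && !memb (l.headD 0) tp

theorem node3 {tp L bads : List ℕ} {r0 q : ℕ} {cert : PTree} {steps : List (ℕ × ℕ)}
    (btp : (allB com0 tp && nodupB tp && Nat.beq tp.length 126 && memb q tp &&
      Nat.blt (deg q (0 :: tp)) 126 && allB (fun x => memb x L) (0 :: tp)) = true)
    (hsome : downOK far0 [] (r0 :: bads) (0 :: tp) cert = true)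
    (hgood : runTest steps (r0 :: 0 :: tp) (fun l => allB (fun x => memb x l) L) = true)
    (hrest : downOK far0 L bads (0 :: tp) cert = true)
    (hbad : ∀ r ∈ bads, ∃ st, runTest st (r :: 0 :: tp) (badB tp) = true)
    (hfin : ∀ S, Valid S → (∀ x, x ∈ S ↔ x ∈ L) → Goal S) : Goal2 Goal tp := by
  intro S hS h0 hsub
  simp only [Bool.and_eq_true, allB_iff, Nat.beq_eq, memb_iff, Nat.blt_eq] at btp
  obtain ⟨⟨⟨⟨⟨hcom, hnd⟩, hlen⟩, hq⟩, hdeg⟩, hL0⟩ := btp
  have hnb : nbr S 0 = {x | x ∈ tp} := by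
    have hle : {x | x ∈ tp} ⊆ nbr S 0 := fun x hx => ⟨hsub x hx, com0_iff.1 (hcom x hx)⟩
    refine (Set.eq_of_subset_of_ncard_le hle ?_ (hS.finite.subset fun x hx => hx.1)).symm
    rw [hS.val 0 h0, show {x | x ∈ tp} = (tp.toFinset : Set ℕ) from (List.coe_toFinset tp).symm,
      Set.ncard_coe_finset, List.toFinset_card_of_nodup (nodupB_sound hnd), hlen]
  have hgen : ∀ g ∈ 0 :: tp, g ∈ S := fun g hg => (List.mem_cons.1 hg).elim (fun e => e ▸ h0) (hsub g)
  have hno : ∀ r ∈ bads, r ∉ S := by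
    intro r hr hrS
    obtain ⟨st, hst⟩ := hbad r hr
    obtain ⟨l, hl, hlS⟩ := runTest_sound hS.closed hst
      (fun x hx => (List.mem_cons.1 hx).elim (fun e => e ▸ hrS) (hgen x))
    simp only [badB, Bool.and_eq_true, Bool.not_eq_true'] at hl
    obtain ⟨h1, h2⟩ := hl
    have h3 := com0_iff.1 h1
    cases l with
    | nil => exact h3.1 rfl
    | cons m l =>
      have : m ∈ nbr S 0 := ⟨hlS m List.mem_cons_self, h3⟩
      rw [hnb] at this
      simp only [List.headD_cons] at h2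
      rw [memb_iff.2 this] at h2
      exact Bool.noConfusion h2
  obtain ⟨y, hy, hyf⟩ : ∃ y ∈ S, far0 y = true := by
    by_contra hcon
    have hsub' : S ⊆ {x | x ∈ 0 :: tp} := by
      intro x hx
      by_cases hx0 : x = 0
      · exact List.mem_cons.2 (Or.inl hx0)
      · have hc : act 0 x = x := by
          by_contra h; exact hcon ⟨x, hx, far0_iff.2 h⟩
        have : x ∈ nbr S 0 := ⟨hx, hx0, hc⟩
        rw [hnb] at this
        exact List.mem_cons_of_mem _ this
    have hsub'' : nbr S q ⊆ {x | x ∈ 0 :: tp ∧ x ≠ q ∧ act q x = x} := fun x hx => ⟨hsub' hx.1, hx.2⟩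
    have := Set.ncard_le_ncard hsub'' ((0 :: tp).finite_toSet.subset fun x hx => hx.1)
    rw [hS.val q (hsub q hq)] at this
    have := this.trans (deg_le q _)
    omega
  obtain ⟨r, hr, hrS, -⟩ := descend hsome (fun y => y ∈ S ∧ far0 y = true)
    (fun y hy => ⟨hS.lt y hy.1, hy.2, List.not_mem_nil⟩)
    (fun g hg y hy hd _ => ⟨hS.closed g (hgen g hg) y hy.1, hd⟩) (y := y) ⟨hy, hyf⟩
  rcases List.mem_cons.1 hr with rfl | hr
  swap
  · exact absurd hrS (hno r hr)
  obtain ⟨l, hl, hlS⟩ := runTest_sound hS.closed hgood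
    (fun x hx => (List.mem_cons.1 hx).elim (fun e => e ▸ hrS) (hgen x))
  refine hfin S hS fun x => ⟨fun hx => ?_, fun hx => hlS x (memb_iff.1 (allB_iff.1 hl x hx))⟩
  by_contra hxL
  have hf : far0 x = true := by
    refine far0_iff.2 fun hc => hxL ?_
    by_cases hx0 : x = 0
    · exact hL0 x (hx0 ▸ List.mem_cons_self)
    · have : x ∈ nbr S 0 := ⟨hx, hx0, hc⟩
      rw [hnb] at this
      exact hL0 x (List.mem_cons_of_mem _ this)
  obtain ⟨r, hr, hrS, -, -⟩ := descend hrest (fun y => y ∈ S ∧ far0 y = true ∧ y ∉ L)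
    (fun y hy => ⟨hS.lt y hy.1, hy.2⟩)
    (fun g hg y hy hd hn => ⟨hS.closed g (hgen g hg) y hy.1, hd, hn⟩) (y := x) ⟨hx, hf, hxL⟩
  exact hno r hr hrS

theorem too_small {L : List ℕ} {q : ℕ} (hq : memb q L = true) (hd : Nat.blt (deg q L) 126 = true) :
    ∀ S, Valid S → (∀ x, x ∈ S ↔ x ∈ L) → Goal S := by
  intro S hS hSL
  have hsub : nbr S q ⊆ {x | x ∈ L ∧ x ≠ q ∧ act q x = x} := fun x hx => ⟨(hSL x).1 hx.1, hx.2⟩
  have := Set.ncard_le_ncard hsub (L.finite_toSet.subset fun x hx => hx.1)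
  rw [hS.val q ((hSL q).2 (memb_iff.1 hq))] at this
  have := this.trans (deg_le q L)
  rw [Nat.blt_eq] at hd
  omega

end Cfsg.Agent.Lib.FischerM23C90.Trace
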